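-- Team project BRA (S4484): package [C3c] (helper3, independent second seat).
import Mathlib
import Cfsg.Agent.Lib.Helper95.BRA.Defs

set_option autoImplicit false

namespace Cfsg.Agent.Lib.Helper3.BRA

open Cfsg Cfsg.Agent.Lib.Helper74.Jordan Cfsg.Agent.Lib.Helper95.BRA

/-- A rational algebraic integer is an integer. -/
theorem int_of_isIntegral_ratCast (q : ℚ) (h : IsIntegral ℤ (q : ℂ)) : ∃ n : ℤ, (n : ℚ) = q := by
  have h' : IsIntegral ℤ q := by
    apply (isIntegral_algebraMap_iff (R := ℤ) (A := ℚ) (B := ℂ) (algebraMap ℚ ℂ).injective).mp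
    rw [eq_ratCast]
    exact h
  obtain ⟨n, hn⟩ := IsIntegrallyClosed.isIntegral_iff.mp h'
  exact ⟨n, by simpa using hn⟩

/-- `p` is not a unit among the algebraic integers. -/
theorem natCast_mem_nonunits_intClosure (p : ℕ) (hp : p.Prime) :
    (p : integralClosure ℤ ℂ) ∈ nonunits (integralClosure ℤ ℂ) := by
  intro h
  obtain ⟨u, hu⟩ := h.exists_right_inv
  have hu' : (p : ℂ) * (u : ℂ) = 1 := by
    have := congrArg (fun z : integralClosure ℤ ℂ => (z : ℂ)) hu
    simpa using this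
  have hp0 : (p : ℂ) ≠ 0 := Nat.cast_ne_zero.mpr hp.ne_zero
  have hq : (u : ℂ) = ((1 / (p : ℚ) : ℚ) : ℂ) := by
    push_cast
    field_simp
    linear_combination hu'
  have hint : IsIntegral ℤ ((1 / (p : ℚ) : ℚ) : ℂ) := by
    rw [← hq]
    exact u.2
  obtain ⟨n, hn⟩ := int_of_isIntegral_ratCast _ hint
  have hp0' : (p : ℚ) ≠ 0 := Nat.cast_ne_zero.mpr hp.ne_zero
  have h1 : (p : ℚ) * (n : ℚ) = 1 := by
    rw [hn]
    field_simp
  have h2 : (p : ℤ) * n = 1 := by exact_mod_cast h1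
  have h3 : (p : ℤ) ∣ 1 := ⟨n, h2.symm⟩
  have h4 : p ∣ 1 := by exact_mod_cast h3
  exact hp.one_lt.ne' (Nat.dvd_one.mp h4)

/-- Freshman's dream among the algebraic integers. -/
theorem sum_pow_prime_dvd (p : ℕ) (hp : p.Prime) (s : Finset ℕ)
    (a x y : ℕ → integralClosure ℤ ℂ) (hx : ∀ l ∈ s, x l ^ p = 1) (hy : ∀ l ∈ s, y l ^ p = 1) :
    ∃ u : integralClosure ℤ ℂ,
      (∑ l ∈ s, a l * (x l - y l)) ^ p = u * (p : integralClosure ℤ ℂ) := by
  have : Fact p.Prime := ⟨hp⟩
  have : CharP (integralClosure ℤ ℂ ⧸ Ideal.span {(p : integralClosure ℤ ℂ)}) p :=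
    CharP.quotient (integralClosure ℤ ℂ) p (natCast_mem_nonunits_intClosure p hp)
  have hz : Ideal.Quotient.mk (Ideal.span {(p : integralClosure ℤ ℂ)})
      ((∑ l ∈ s, a l * (x l - y l)) ^ p) = 0 := by
    rw [map_pow, map_sum, sum_pow_char]
    apply Finset.sum_eq_zero
    intro l hl
    rw [map_mul, map_sub, mul_pow, sub_pow_char, ← map_pow _ (x l), ← map_pow _ (y l), hx l hl,
      hy l hl, sub_self, mul_zero]
  have hmem := Ideal.Quotient.eq_zero_iff_mem.mp hz
  obtain ⟨u, hu⟩ := Ideal.mem_span_singleton'.mp hmem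
  exact ⟨u, hu.symm⟩

/-- Fourier inversion for the power sums. -/
theorem fourier_C3c (p : ℕ) (hp : p.Prime) (m : ℕ → ℕ) (i : ℕ) (hi : i < p) :
    ∑ l ∈ Finset.range p,
        (∑ k ∈ Finset.range p, (m k : ℂ) * rt p ^ (k * l)) * rt p ^ ((p - i) * l) =
      (p : ℂ) * (m i : ℂ) := by
  have hζ : IsPrimitiveRoot (rt p) p := rt_prim hp.ne_zero
  have hinner : ∀ k ∈ Finset.range p,
      ∑ l ∈ Finset.range p, (rt p ^ (k + (p - i))) ^ l = if k = i then (p : ℂ) else 0 := by
    intro k hk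
    rw [Finset.mem_range] at hk
    split_ifs with hki
    · subst hki
      have h1 : rt p ^ (k + (p - k)) = 1 := by
        rw [show k + (p - k) = p by omega]
        exact hζ.pow_eq_one
      rw [h1]
      simp
    · have hne : rt p ^ (k + (p - i)) ≠ 1 := by
        intro h1
        obtain ⟨c, hc⟩ := (hζ.pow_eq_one_iff_dvd _).mp h1
        rcases c with _ | _ | c
        · simp at hc
          omega
        · simp at hc
          omega
        · have h2 : p * (c + 1 + 1) = p * c + 2 * p := by ring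
          have h3 : 0 ≤ p * c := Nat.zero_le _
          omega
      have hpow : (rt p ^ (k + (p - i))) ^ p = 1 := by
        rw [← pow_mul, mul_comm, pow_mul, hζ.pow_eq_one, one_pow]
      have hgeom := mul_geom_sum (rt p ^ (k + (p - i))) p
      rw [hpow, sub_self] at hgeom
      rcases mul_eq_zero.mp hgeom with h | h
      · exact absurd (sub_eq_zero.mp h) hne
      · exact h
  calc ∑ l ∈ Finset.range p,
        (∑ k ∈ Finset.range p, (m k : ℂ) * rt p ^ (k * l)) * rt p ^ ((p - i) * l)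
      = ∑ l ∈ Finset.range p, ∑ k ∈ Finset.range p, (m k : ℂ) * (rt p ^ (k + (p - i))) ^ l := by
        apply Finset.sum_congr rfl
        intro l _
        rw [Finset.sum_mul]
        apply Finset.sum_congr rfl
        intro k _
        rw [← pow_mul, add_mul, pow_add]
        ring
    _ = ∑ k ∈ Finset.range p, ∑ l ∈ Finset.range p, (m k : ℂ) * (rt p ^ (k + (p - i))) ^ l :=
        Finset.sum_comm
    _ = ∑ k ∈ Finset.range p, (m k : ℂ) * (if k = i then (p : ℂ) else 0) := by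
        apply Finset.sum_congr rfl
        intro k hk
        rw [← Finset.mul_sum, hinner k hk]
    _ = (p : ℂ) * (m i : ℂ) := by
        rw [Finset.sum_eq_single i]
        · rw [if_pos rfl]
          ring
        · intro k _ hk
          rw [if_neg hk, mul_zero]
        · intro h
          exact absurd (Finset.mem_range.mpr hi) h

/-- [C3c] -/
theorem pkgC3c : PkgC3c := by
  intro p hp m D hD hint i hi j hj
  have hζ : IsPrimitiveRoot (rt p) p := rt_prim hp.ne_zero
  have hp0 : (p : ℂ) ≠ 0 := Nat.cast_ne_zero.mpr hp.ne_zero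
  have hD0 : (D : ℂ) ≠ 0 := Nat.cast_ne_zero.mpr hD.ne'
  have hζint : IsIntegral ℤ (rt p) := by
    apply IsIntegral.of_pow hp.pos
    rw [hζ.pow_eq_one]
    exact isIntegral_one
  -- the coefficients
  let c : ℕ → ℂ := fun l => ∑ k ∈ Finset.range p, (m k : ℂ) * rt p ^ (k * l)
  have ha : ∀ l : ℕ, IsIntegral ℤ (if p ∣ l then (0 : ℂ) else c l / (D : ℂ)) := by
    intro l
    split_ifs with h
    · exact isIntegral_zero
    · exact hint l h
  let a : ℕ → integralClosure ℤ ℂ := fun l => ⟨_, ha l⟩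
  let x : ℕ → integralClosure ℤ ℂ := fun l => ⟨rt p ^ ((p - i) * l), hζint.pow _⟩
  let y : ℕ → integralClosure ℤ ℂ := fun l => ⟨rt p ^ ((p - j) * l), hζint.pow _⟩
  have hx : ∀ l ∈ Finset.range p, x l ^ p = 1 := by
    intro l _
    apply Subtype.ext
    show (rt p ^ ((p - i) * l)) ^ p = 1
    rw [← pow_mul, mul_comm, pow_mul, hζ.pow_eq_one, one_pow]
  have hy : ∀ l ∈ Finset.range p, y l ^ p = 1 := by
    intro l _
    apply Subtype.ext
    show (rt p ^ ((p - j) * l)) ^ p = 1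
    rw [← pow_mul, mul_comm, pow_mul, hζ.pow_eq_one, one_pow]
  obtain ⟨u, hu⟩ := sum_pow_prime_dvd p hp (Finset.range p) a x y hx hy
  -- the value of the sum
  have hval : ((∑ l ∈ Finset.range p, a l * (x l - y l) : integralClosure ℤ ℂ) : ℂ) =
      (p : ℂ) * ((m i : ℂ) - (m j : ℂ)) / (D : ℂ) := by
    have h1 : ((∑ l ∈ Finset.range p, a l * (x l - y l) : integralClosure ℤ ℂ) : ℂ) =
        ∑ l ∈ Finset.range p, (if p ∣ l then (0 : ℂ) else c l / (D : ℂ)) *
          (rt p ^ ((p - i) * l) - rt p ^ ((p - j) * l)) := by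
      push_cast
      rfl
    have h2 : ∀ l ∈ Finset.range p, (if p ∣ l then (0 : ℂ) else c l / (D : ℂ)) *
          (rt p ^ ((p - i) * l) - rt p ^ ((p - j) * l)) =
        (c l * rt p ^ ((p - i) * l) - c l * rt p ^ ((p - j) * l)) / (D : ℂ) := by
      intro l hl
      rw [Finset.mem_range] at hl
      split_ifs with h
      · have hl0 : l = 0 := by
          rcases Nat.eq_zero_or_pos l with h0 | h0
          · exact h0
          · exact absurd (Nat.le_of_dvd h0 h) (by omega)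
        subst hl0
        simp
      · ring
    rw [h1, Finset.sum_congr rfl h2, ← Finset.sum_div, Finset.sum_sub_distrib]
    have e1 := fourier_C3c p hp m i hi
    have e2 := fourier_C3c p hp m j hj
    rw [e1, e2]
    ring
  obtain ⟨S, hS⟩ : ∃ S : integralClosure ℤ ℂ, S = ∑ l ∈ Finset.range p, a l * (x l - y l) :=
    ⟨_, rfl⟩
  rw [← hS] at hu hval
  -- the sum is a rational algebraic integer
  have hq : (p : ℂ) * ((m i : ℂ) - (m j : ℂ)) / (D : ℂ) =
      (((p : ℚ) * ((m i : ℚ) - (m j : ℚ)) / (D : ℚ) : ℚ) : ℂ) := by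
    push_cast
    ring
  have hT : IsIntegral ℤ (((p : ℚ) * ((m i : ℚ) - (m j : ℚ)) / (D : ℚ) : ℚ) : ℂ) := by
    rw [← hq, ← hval]
    exact S.2
  obtain ⟨n, hn⟩ := int_of_isIntegral_ratCast _ hT
  -- its `p`-th power over `p` is an algebraic integer
  have h3 : (S : ℂ) ^ p = (u : ℂ) * (p : ℂ) := by
    have := congrArg (fun z : integralClosure ℤ ℂ => (z : ℂ)) hu
    simpa using this
  have hu' : (u : ℂ) = (((n : ℚ) ^ p / (p : ℚ) : ℚ) : ℂ) := by
    rw [hval, hq, ← hn] at h3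
    push_cast
    push_cast at h3
    field_simp
    linear_combination -h3
  have hU : IsIntegral ℤ (((n : ℚ) ^ p / (p : ℚ) : ℚ) : ℂ) := by
    rw [← hu']
    exact u.2
  obtain ⟨n', hn'⟩ := int_of_isIntegral_ratCast _ hU
  have hpQ : (p : ℚ) ≠ 0 := Nat.cast_ne_zero.mpr hp.ne_zero
  have hDQ : (D : ℚ) ≠ 0 := Nat.cast_ne_zero.mpr hD.ne'
  have h5 : (n : ℚ) ^ p = (p : ℚ) * (n' : ℚ) := by
    rw [hn']
    field_simp
  have h6 : n ^ p = (p : ℤ) * n' := by exact_mod_cast h5
  have h7 : (p : ℤ) ∣ n := Int.Prime.dvd_pow' hp ⟨n', h6⟩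
  obtain ⟨n'', hn''⟩ := h7
  have h8 : (D : ℚ) * (n : ℚ) = (p : ℚ) * ((m i : ℚ) - (m j : ℚ)) := by
    rw [hn]
    field_simp
  have h9 : (D : ℤ) * n = (p : ℤ) * ((m i : ℤ) - (m j : ℤ)) := by exact_mod_cast h8
  have hpZ : (p : ℤ) ≠ 0 := Nat.cast_ne_zero.mpr hp.ne_zero
  refine ⟨n'', ?_⟩
  have h10 : (p : ℤ) * ((m i : ℤ) - (m j : ℤ)) = (p : ℤ) * ((D : ℤ) * n'') := by
    rw [← h9, hn'']
    ring
  exact mul_left_cancel₀ hpZ h10

end Cfsg.Agent.Lib.Helper3.BRA
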